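import Mathlib

/-!
# Project SLM (helper15), pieces G1 and G2

* `exists_irr_rep` : `SL_n(F)` is 2-transitive on the points of projective space, so the
  augmentation part of the permutation representation is irreducible of degree
  `(q^n - q)/(q - 1)`;
* `transport_bound` : transport of a lower bound for the degrees along a bijection of index types.
-/

set_option autoImplicit false
set_option linter.unusedSectionVars false
set_option linter.unusedVariables false

namespace Cfsg.Agent.Lib.helper15.SLM

open Matrix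

section Crit

variable {k G V : Type*} [Field k] [Monoid G] [AddCommGroup V] [Module k V]

theorem h29_isIrreducible_of_forall (ρ : Representation k G V) [Nontrivial V]
    (h : ∀ U : Submodule k V, (∀ g, ∀ v ∈ U, ρ g v ∈ U) → U = ⊥ ∨ U = ⊤) :
    ρ.IsIrreducible := by
  have hnt : Nontrivial (Subrepresentation ρ) := by
    refine ⟨⊥, ⊤, fun hbt => ?_⟩
    have h1 : (⊥ : Submodule k V) = ⊤ := congrArg Subrepresentation.toSubmodule hbt
    exact bot_ne_top h1
  refine { toNontrivial := hnt, eq_bot_or_eq_top := fun σ => ?_ }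
  rcases h σ.toSubmodule (fun g v hv => σ.apply_mem_toSubmodule g hv) with h1 | h1
  · left; exact Subrepresentation.toSubmodule_injective h1
  · right; exact Subrepresentation.toSubmodule_injective h1

theorem h29_forall_of_isIrreducible (ρ : Representation k G V) (hirr : ρ.IsIrreducible)
    (U : Submodule k V) (hU : ∀ g, ∀ v ∈ U, ρ g v ∈ U) : U = ⊥ ∨ U = ⊤ := by
  rcases hirr.eq_bot_or_eq_top ⟨U, fun g v hv => hU g v hv⟩ with h1 | h1
  · left; exact congrArg Subrepresentation.toSubmodule h1
  · right; exact congrArg Subrepresentation.toSubmodule h1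

end Crit

section Core

variable {G Ω : Type*} [Group G] [Fintype G] [Fintype Ω] [DecidableEq Ω] [MulAction G Ω]

/-- the core of the irreducibility of the augmentation module of a 2-transitive action -/
theorem h29_core (htr : ∀ a c : Ω, ∃ g : G, g • a = c)
    (h2 : ∀ a b c : Ω, b ≠ a → c ≠ a → ∃ g : G, g • a = a ∧ g • b = c)
    (U : Submodule ℂ (Ω → ℂ)) (hUW : ∀ f ∈ U, ∑ x, f x = 0)
    (hU : ∀ g : G, ∀ f ∈ U, (fun x => f (g⁻¹ • x)) ∈ U) (hne : U ≠ ⊥)
    (w : Ω → ℂ) (hw : ∑ x, w x = 0) : w ∈ U := by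
  classical
  obtain ⟨f, hfU, hf0⟩ := (Submodule.ne_bot_iff U).mp hne
  obtain ⟨a, ha⟩ : ∃ a, f a ≠ 0 := by
    by_contra hcon
    push Not at hcon
    exact hf0 (funext hcon)
  -- the averaged vector
  set F' : Ω → ℂ := ∑ g : G, (if g • a = a then (fun x => f (g⁻¹ • x)) else 0) with hF'
  have hF'U : F' ∈ U := by
    refine Submodule.sum_mem _ (fun g _ => ?_)
    split_ifs
    · exact hU g f hfU
    · exact U.zero_mem
  have hF'x : ∀ x, F' x = ∑ g : G, (if g • a = a then f (g⁻¹ • x) else 0) := by
    intro x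
    rw [hF', Finset.sum_apply]
    refine Finset.sum_congr rfl (fun g _ => ?_)
    split_ifs <;> rfl
  set c₀ : ℂ := ((Finset.univ.filter (fun g : G => g • a = a)).card : ℂ) with hc₀
  have hc₀ne : c₀ ≠ 0 := by
    rw [hc₀, Nat.cast_ne_zero]
    exact Finset.card_ne_zero.mpr ⟨1, by simp⟩
  set A : ℂ := c₀ * f a with hA
  have hAne : A ≠ 0 := mul_ne_zero hc₀ne ha
  have hFa : F' a = A := by
    rw [hF'x, hA, hc₀, Finset.card_filter, Nat.cast_sum, Finset.sum_mul]
    refine Finset.sum_congr rfl (fun g _ => ?_)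
    split_ifs with hg
    · have : g⁻¹ • a = a := by
        rw [inv_smul_eq_iff, hg]
      rw [this]; simp
    · simp
  -- constancy off `a`
  have hconst : ∀ x y : Ω, x ≠ a → y ≠ a → F' x = F' y := by
    intro x y hx hy
    obtain ⟨h, hha, hhx⟩ := h2 a x y hx hy
    rw [hF'x, hF'x, ← hhx]
    conv_rhs => rw [← Equiv.sum_comp (Equiv.mulLeft h)]
    refine Finset.sum_congr rfl (fun g _ => ?_)
    simp only [Equiv.coe_mulLeft]
    have e1 : ((h * g) • a = a) ↔ (g • a = a) := by
      rw [mul_smul]
      constructor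
      · intro h1
        have : h • (g • a) = h • a := by rw [h1, hha]
        exact smul_left_cancel h this
      · intro h1
        rw [h1, hha]
    have e2 : (h * g)⁻¹ • (h • x) = g⁻¹ • x := by
      rw [_root_.mul_inv_rev, mul_smul, inv_smul_smul]
    rw [e2]
    by_cases hg : g • a = a
    · simp [hg, e1]
    · simp [hg, e1]
  -- the value off `a`
  by_cases hΩ : ∃ b : Ω, b ≠ a
  · obtain ⟨b, hb⟩ := hΩ
    set B : ℂ := F' b with hB
    have hFval : ∀ z, F' z = if z = a then A else B := by
      intro z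
      by_cases hz : z = a
      · rw [if_pos hz, hz, hFa]
      · rw [if_neg hz]; exact hconst z b hz hb
    have hsum : (Fintype.card Ω : ℂ) * B + (A - B) = 0 := by
      have h1 := hUW F' hF'U
      have h2 : ∑ x, F' x = ∑ x : Ω, (B + if x = a then (A - B) else 0) := by
        refine Finset.sum_congr rfl (fun z _ => ?_)
        rw [hFval]
        split_ifs <;> ring
      rw [h2, Finset.sum_add_distrib, Finset.sum_ite_eq' Finset.univ a] at h1
      simpa using h1
    have hAB : A - B ≠ 0 := by
      intro h0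
      have hAB' : A = B := sub_eq_zero.mp h0
      rw [h0, add_zero] at hsum
      have hcard : (Fintype.card Ω : ℂ) ≠ 0 := by
        rw [Nat.cast_ne_zero]
        have : Nonempty Ω := ⟨a⟩
        exact Fintype.card_ne_zero
      have : B = 0 := by
        rcases mul_eq_zero.mp hsum with h3 | h3
        · exact absurd h3 hcard
        · exact h3
      exact hAne (hAB'.trans this)
    choose gx hgx using fun x : Ω => htr a x
    have hmove : ∀ x z : Ω, F' ((gx x)⁻¹ • z) = if z = x then A else B := by
      intro x z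
      rw [hFval]
      have : ((gx x)⁻¹ • z = a) ↔ (z = x) := by
        rw [inv_smul_eq_iff, hgx]
      by_cases hz : z = x
      · rw [if_pos hz, if_pos (this.mpr hz)]
      · rw [if_neg hz, if_neg (fun h1 => hz (this.mp h1))]
    have hcomb : w = (A - B)⁻¹ • ∑ x : Ω, w x • (fun z => F' ((gx x)⁻¹ • z)) := by
      funext z
      rw [Pi.smul_apply, Finset.sum_apply]
      have h1 : ∀ x : Ω, (w x • (fun z => F' ((gx x)⁻¹ • z))) z =
          w x * B + (if x = z then w x * (A - B) else 0) := by
        intro x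
        rw [Pi.smul_apply, hmove, smul_eq_mul]
        by_cases hz : z = x
        · rw [if_pos hz, if_pos hz.symm]; ring
        · rw [if_neg hz, if_neg (fun h => hz h.symm)]; ring
      rw [Finset.sum_congr rfl (fun x _ => h1 x), Finset.sum_add_distrib, ← Finset.sum_mul, hw,
        zero_mul, zero_add, Finset.sum_ite_eq' Finset.univ z, if_pos (Finset.mem_univ z),
        smul_eq_mul]
      field_simp
    rw [hcomb]
    refine U.smul_mem _ (Submodule.sum_mem _ (fun x _ => U.smul_mem _ ?_))
    exact hU (gx x) F' hF'U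
  · -- `Ω = {a}`: the augmentation module is zero
    push Not at hΩ
    have : w = 0 := by
      funext z
      have hz : z = a := hΩ z
      have h1 : ∑ x, w x = w a := by
        rw [Finset.sum_eq_single a]
        · intro b _ hb; exact absurd (hΩ b) hb
        · intro h; exact absurd (Finset.mem_univ a) h
      rw [hz, Pi.zero_apply, ← h1, hw]
    rw [this]; exact U.zero_mem

end Core

section Transport

variable {G : Type*} [Group G]

/-- transport of a representation along a linear equivalence -/
noncomputable def h29_transport {W V : Type*} [AddCommGroup W] [Module ℂ W] [AddCommGroup V]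
    [Module ℂ V] (σ : Representation ℂ G W) (e : W ≃ₗ[ℂ] V) : Representation ℂ G V where
  toFun g := e.toLinearMap ∘ₗ σ g ∘ₗ e.symm.toLinearMap
  map_one' := by ext v; simp
  map_mul' g h := by ext v; simp

theorem h29_transport_apply {W V : Type*} [AddCommGroup W] [Module ℂ W] [AddCommGroup V]
    [Module ℂ V] (σ : Representation ℂ G W) (e : W ≃ₗ[ℂ] V) (g : G) (v : V) :
    h29_transport σ e g v = e (σ g (e.symm v)) := rfl

end Transport

section Build

variable {G Ω : Type*} [Group G] [Fintype Ω] [MulAction G Ω]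

/-- the sum functional -/
noncomputable def h29_sumL (Ω : Type*) [Fintype Ω] : (Ω → ℂ) →ₗ[ℂ] ℂ where
  toFun f := ∑ x, f x
  map_add' f g := by simp [Finset.sum_add_distrib]
  map_smul' c f := by simp [Finset.mul_sum]

/-- the augmentation submodule -/
noncomputable def h29_aug (Ω : Type*) [Fintype Ω] : Submodule ℂ (Ω → ℂ) :=
  LinearMap.ker (h29_sumL Ω)

theorem h29_mem_aug (f : Ω → ℂ) : f ∈ h29_aug Ω ↔ ∑ x, f x = 0 := by
  rw [h29_aug, LinearMap.mem_ker]; rfl

/-- the permutation representation on functions -/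
noncomputable def h29_perm (G Ω : Type*) [Group G] [MulAction G Ω] :
    Representation ℂ G (Ω → ℂ) where
  toFun g :=
    { toFun := fun f x => f (g⁻¹ • x)
      map_add' := fun f₁ f₂ => rfl
      map_smul' := fun c f => rfl }
  map_one' := by ext f x; simp
  map_mul' g h := by ext f x; simp [mul_smul]

theorem h29_perm_apply (g : G) (f : Ω → ℂ) (x : Ω) : h29_perm G Ω g f x = f (g⁻¹ • x) := rfl

theorem h29_perm_mem_aug (g : G) (f : Ω → ℂ) (hf : f ∈ h29_aug Ω) :
    h29_perm G Ω g f ∈ h29_aug Ω := by
  rw [h29_mem_aug] at hf ⊢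
  rw [← hf]
  exact Equiv.sum_comp (MulAction.toPerm g⁻¹) f

theorem h29_finrank_aug [Nonempty Ω] :
    Module.finrank ℂ (h29_aug Ω) + 1 = Fintype.card Ω := by
  classical
  have h1 := LinearMap.finrank_range_add_finrank_ker (h29_sumL Ω)
  have h2 : LinearMap.range (h29_sumL Ω) = ⊤ := by
    rw [LinearMap.range_eq_top]
    intro c
    obtain ⟨a⟩ := ‹Nonempty Ω›
    refine ⟨Pi.single a c, ?_⟩
    change ∑ x, (Pi.single a c : Ω → ℂ) x = c
    rw [Finset.sum_pi_single' a c Finset.univ, if_pos (Finset.mem_univ a)]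
  rw [h2, finrank_top, Module.finrank_self, Module.finrank_fintype_fun_eq_card] at h1
  rw [h29_aug]
  omega

/-- the restriction of the permutation representation to the augmentation submodule -/
noncomputable def h29_augRep (G Ω : Type*) [Group G] [Fintype Ω] [MulAction G Ω] :
    Representation ℂ G (h29_aug Ω) where
  toFun g := (h29_perm G Ω g).restrict (fun f hf => h29_perm_mem_aug g f hf)
  map_one' := by ext f x; simp
  map_mul' g h := by ext f x; simp

theorem h29_augRep_coe (g : G) (w : h29_aug Ω) :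
    ((h29_augRep G Ω g w : h29_aug Ω) : Ω → ℂ) = h29_perm G Ω g (w : Ω → ℂ) := rfl

theorem h29_exists_irr [Fintype G] [DecidableEq Ω] (htr : ∀ a c : Ω, ∃ g : G, g • a = c)
    (h2 : ∀ a b c : Ω, b ≠ a → c ≠ a → ∃ g : G, g • a = a ∧ g • b = c)
    (K : ℕ) (hK1 : 1 ≤ K) (hK : K + 1 = Fintype.card Ω) :
    ∃ ρ : Representation ℂ G (Fin K → ℂ), ρ.IsIrreducible := by
  classical
  have hne : Nonempty Ω := by
    rw [← Fintype.card_pos_iff]; omega
  have hfr : Module.finrank ℂ (h29_aug Ω) = Module.finrank ℂ (Fin K → ℂ) := by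
    have := h29_finrank_aug (Ω := Ω)
    rw [Module.finrank_fin_fun]
    omega
  let e : h29_aug Ω ≃ₗ[ℂ] (Fin K → ℂ) := LinearEquiv.ofFinrankEq _ _ hfr
  refine ⟨h29_transport (h29_augRep G Ω) e, ?_⟩
  have : Nontrivial (Fin K → ℂ) := by
    have : Nonempty (Fin K) := ⟨⟨0, hK1⟩⟩
    infer_instance
  apply h29_isIrreducible_of_forall
  intro U' hU'
  by_cases hbot : U' = ⊥
  · exact Or.inl hbot
  right
  -- the corresponding submodule of functions
  let U : Submodule ℂ (Ω → ℂ) := (U'.comap e.toLinearMap).map (h29_aug Ω).subtype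
  have hmemU : ∀ f, f ∈ U ↔ ∃ w : h29_aug Ω, e w ∈ U' ∧ (w : Ω → ℂ) = f := by
    intro f
    simp only [U, Submodule.mem_map, Submodule.mem_comap, Submodule.subtype_apply,
      LinearEquiv.coe_coe]
  have hUW : ∀ f ∈ U, ∑ x, f x = 0 := by
    intro f hf
    obtain ⟨w, _, rfl⟩ := (hmemU f).mp hf
    exact (h29_mem_aug _).mp w.2
  have hUinv : ∀ g : G, ∀ f ∈ U, (fun x => f (g⁻¹ • x)) ∈ U := by
    intro g f hf
    obtain ⟨w, hw, rfl⟩ := (hmemU f).mp hf
    refine (hmemU _).mpr ⟨h29_augRep G Ω g w, ?_, rfl⟩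
    have := hU' g (e w) hw
    rwa [h29_transport_apply, LinearEquiv.symm_apply_apply] at this
  have hUne : U ≠ ⊥ := by
    obtain ⟨u', hu', hu'0⟩ := (Submodule.ne_bot_iff U').mp hbot
    rw [Submodule.ne_bot_iff]
    refine ⟨(e.symm u' : Ω → ℂ), (hmemU _).mpr ⟨e.symm u', by simpa using hu', rfl⟩, ?_⟩
    intro h0
    apply hu'0
    have : e.symm u' = 0 := Subtype.ext h0
    simpa using congrArg e this
  rw [eq_top_iff]
  intro v _
  have hw : ((e.symm v : h29_aug Ω) : Ω → ℂ) ∈ U :=
    h29_core htr h2 U hUW hUinv hUne _ ((h29_mem_aug _).mp (e.symm v).2)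
  obtain ⟨w', hw', hw'eq⟩ := (hmemU _).mp hw
  have : w' = e.symm v := Subtype.ext hw'eq
  rw [this] at hw'
  simpa using hw'

end Build

section G

variable {F : Type*} [Field F] [Fintype F] [DecidableEq F]

open scoped LinearAlgebra.Projectivization

/-- G1 : existence of an irreducible representation of degree `(q^n - q)/(q - 1)` -/
theorem exists_irr_rep (n : ℕ) (hn : 2 ≤ n) :
    ∃ ρ : Representation ℂ (SpecialLinearGroup (Fin n) F)
      (Fin ((Fintype.card F ^ n - Fintype.card F) / (Fintype.card F - 1)) → ℂ),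
      ρ.IsIrreducible := by
  classical
  have : Fintype (SpecialLinearGroup (Fin n) F) := Fintype.ofFinite _
  have : Fintype (ℙ F (Fin n → F)) := Fintype.ofFinite _
  have h2t : ∀ a b c d : ℙ F (Fin n → F), a ≠ b → c ≠ d →
      ∃ g : SpecialLinearGroup (Fin n) F, g • a = c ∧ g • b = d :=
    fun a b c d hab hcd => (MulAction.is_two_pretransitive_iff.mp inferInstance) hab hcd
  have hq : 2 ≤ Fintype.card F := Fintype.one_lt_card
  -- cardinality
  have hcard := Projectivization.card' F (Fin n → F)
  rw [Nat.card_eq_fintype_card, Nat.card_eq_fintype_card, Nat.card_eq_fintype_card,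
    Fintype.card_fun, Fintype.card_fin] at hcard
  set q := Fintype.card F with hqdef
  set N := Fintype.card (ℙ F (Fin n → F)) with hNdef
  have hqn : 4 ≤ q ^ n := by
    calc 4 = 2 ^ 2 := by norm_num
      _ ≤ q ^ 2 := Nat.pow_le_pow_left hq 2
      _ ≤ q ^ n := Nat.pow_le_pow_right (by omega) hn
  have hN1 : 1 ≤ N := by
    by_contra hcon
    have : N = 0 := by omega
    rw [this] at hcard
    omega
  obtain ⟨N', hN'⟩ : ∃ N', N = N' + 1 := ⟨N - 1, by omega⟩
  have hK : (q ^ n - q) / (q - 1) = N' := by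
    have h1 : q ^ n - q = N' * (q - 1) := by
      rw [hcard, hN']
      have : (N' + 1) * (q - 1) + 1 = N' * (q - 1) + q := by
        rw [add_mul, one_mul]; omega
      rw [this]; omega
    rw [h1, Nat.mul_div_cancel _ (by omega)]
  rw [hK]
  have hN'1 : 1 ≤ N' := by
    by_contra hcon
    have : N' = 0 := by omega
    rw [hN', this] at hcard
    simp only [zero_add, one_mul] at hcard
    have h3 : q ≤ q ^ 1 := by simp
    have h4 : q ^ 1 < q ^ n := Nat.pow_lt_pow_right (by omega) (by omega)
    omega
  refine h29_exists_irr (G := SpecialLinearGroup (Fin n) F) (Ω := ℙ F (Fin n → F)) ?_ ?_ N' hN'1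
    (by rw [← hN', hNdef])
  · intro a c
    by_cases hac : a = c
    · exact ⟨1, by rw [one_smul, hac]⟩
    · obtain ⟨g, hg, _⟩ := h2t a c c a hac (Ne.symm hac)
      exact ⟨g, hg⟩
  · intro a b c hb hc
    exact h2t a b a c (Ne.symm hb) (Ne.symm hc)

/-- reindexing isomorphism of special linear groups -/
noncomputable def h29_slReindex {ι ι' : Type*} [Fintype ι] [DecidableEq ι] [Fintype ι']
    [DecidableEq ι'] (e : ι ≃ ι') : SpecialLinearGroup ι F ≃* SpecialLinearGroup ι' F where
  toFun A := ⟨Matrix.reindex e e A.1, by rw [Matrix.det_reindex_self]; exact A.2⟩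
  invFun A := ⟨Matrix.reindex e.symm e.symm A.1, by rw [Matrix.det_reindex_self]; exact A.2⟩
  left_inv A := by
    apply Subtype.ext
    simp
  right_inv A := by
    apply Subtype.ext
    simp
  map_mul' A B := by
    apply Subtype.ext
    change (A.1 * B.1).submatrix e.symm e.symm =
      A.1.submatrix e.symm e.symm * B.1.submatrix e.symm e.symm
    exact (Matrix.submatrix_mul_equiv _ _ _ _ _).symm

/-- G2 : transport along a bijection of the index types -/
theorem transport_bound {ι ι' : Type*} [Fintype ι] [DecidableEq ι] [Fintype ι'] [DecidableEq ι']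
    (e : ι ≃ ι') (N : ℕ)
    (h : ∀ (k : ℕ) (ρ : Representation ℂ (SpecialLinearGroup ι' F) (Fin k → ℂ)),
      ρ.IsIrreducible → 2 ≤ k → N ≤ k)
    (k : ℕ) (ρ : Representation ℂ (SpecialLinearGroup ι F) (Fin k → ℂ))
    (hirr : ρ.IsIrreducible) (hk : 2 ≤ k) : N ≤ k := by
  let φ : SpecialLinearGroup ι F ≃* SpecialLinearGroup ι' F := h29_slReindex e
  let ρ' : Representation ℂ (SpecialLinearGroup ι' F) (Fin k → ℂ) := ρ.comp φ.symm.toMonoidHom
  refine h k ρ' ?_ hk
  have : Nontrivial (Fin k → ℂ) := by
    have : Nonempty (Fin k) := ⟨⟨0, by omega⟩⟩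
    infer_instance
  apply h29_isIrreducible_of_forall
  intro U hU
  apply h29_forall_of_isIrreducible ρ hirr U
  intro g v hv
  have := hU (φ g) v hv
  simpa [ρ'] using this

end G

end Cfsg.Agent.Lib.helper15.SLM
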